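import Groth.Agent.Lib.HSheaf4.Stalk
import Groth.Agent.Lib.PropH0.EtH0
import Groth.Agent.S19568
import Groth.Agent.S1958
import Groth.Prelude.Def_Hens2

/-!
# The sheaf property of henselizations of pairs on a Zariski cover of the closed set
-/

set_option autoImplicit false
set_option backward.isDefEq.respectTransparency.types false
set_option maxHeartbeats 1000000

universe u

open CategoryTheory CategoryTheory.Limits AlgebraicGeometry Opposite TensorProduct
open GrothLib.EtSite GrothLib.EtSec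

noncomputable section

namespace GrothLib.HSheaf4

/-- The spectrum of an etale stage is determined modulo the ideal. -/
theorem hom_ext_of_surjective {A B T : Type u} [CommRing A] [CommRing B] [CommRing T] [Algebra A B]
    (I : Ideal A)
    (hb : Function.Surjective (Ideal.quotientMap (I.map (algebraMap A B)) (algebraMap A B) Ideal.le_comap_map))
    {f f' : B →+* T} (hA : f.comp (algebraMap A B) = f'.comp (algebraMap A B))
    (hI : ∀ a ∈ I, f (algebraMap A B a) = 0) : f = f' := by
  have key : ∀ h : B →+* T, (∀ a ∈ I, h (algebraMap A B a) = 0) → I.map (algebraMap A B) ≤ RingHom.ker h :=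
    fun h hh => Ideal.map_le_iff_le_comap.2 fun a ha => hh a ha
  have hI' : ∀ a ∈ I, f' (algebraMap A B a) = 0 := fun a ha => by
    rw [← RingHom.comp_apply, ← hA]; exact hI a ha
  ext x
  obtain ⟨y, hy⟩ := hb (Ideal.Quotient.mk _ x)
  obtain ⟨a, rfl⟩ := Ideal.Quotient.mk_surjective y
  rw [Ideal.quotientMap_mk, Ideal.Quotient.eq] at hy
  have h₁ : f (algebraMap A B a) = f x := sub_eq_zero.1 ((map_sub f _ _).symm.trans (key f hI hy))
  have h₂ : f' (algebraMap A B a) = f' x := sub_eq_zero.1 ((map_sub f' _ _).symm.trans (key f' hI' hy))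
  rw [← h₁, ← h₂]
  exact RingHom.congr_fun hA a

/-- Maps out of the base killing the ideal extend over an algebra with the same quotient. -/
theorem exists_extend {A B T : Type u} [CommRing A] [CommRing B] [CommRing T] [Algebra A B] (I : Ideal A)
    (hb : Function.Bijective (Ideal.quotientMap (I.map (algebraMap A B)) (algebraMap A B) Ideal.le_comap_map))
    (f : A →+* T) (hI : ∀ a ∈ I, f a = 0) :
    ∃ g : B →+* T, g.comp (algebraMap A B) = f :=
  ⟨(Ideal.Quotient.lift I f hI).comp (GrothLib.Hensel.pointOfBijective hb).toRingHom, RingHom.ext fun a => by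
    show Ideal.Quotient.lift I f hI (GrothLib.Hensel.pointOfBijective hb (algebraMap A B a)) = f a
    rw [AlgHom.commutes]
    exact Ideal.Quotient.lift_mk I f hI⟩

variable {A : Type u} [CommRing A] {I : Ideal A}

section away

variable {g : A} {B T : Type u} [CommRing B] [CommRing T] [Algebra (Localization.Away g) B] [Algebra A B]
  [IsScalarTower A (Localization.Away g) B]

/-- Two maps out of a stage over `A_g` agreeing on `A` and killing the ideal agree. -/
theorem hom_ext_away
    (hb : Function.Surjective (Ideal.quotientMap ((I.map (algebraMap A (Localization.Away g))).map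
      (algebraMap (Localization.Away g) B)) (algebraMap (Localization.Away g) B) Ideal.le_comap_map))
    {f f' : B →+* T} (hA : f.comp (algebraMap A B) = f'.comp (algebraMap A B))
    (hI : ∀ a ∈ I, f (algebraMap A B a) = 0) : f = f' := by
  refine hom_ext_of_surjective _ hb (IsLocalization.ringHom_ext (Submonoid.powers g) ?_) fun a ha => ?_
  · rw [RingHom.comp_assoc, RingHom.comp_assoc, ← IsScalarTower.algebraMap_eq]; exact hA
  · have : I.map (algebraMap A (Localization.Away g)) ≤ RingHom.ker (f.comp (algebraMap (Localization.Away g) B)) :=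
      Ideal.map_le_iff_le_comap.2 fun a ha => by
        show f (algebraMap (Localization.Away g) B (algebraMap A _ a)) = 0
        rw [← IsScalarTower.algebraMap_apply]; exact hI a ha
    exact this ha

/-- A map out of `A` killing the ideal and inverting `g` extends. -/
theorem exists_extend_away
    (hb : Function.Bijective (Ideal.quotientMap ((I.map (algebraMap A (Localization.Away g))).map
      (algebraMap (Localization.Away g) B)) (algebraMap (Localization.Away g) B) Ideal.le_comap_map))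
    (f : A →+* T) (hI : ∀ a ∈ I, f a = 0) (hg : IsUnit (f g)) :
    ∃ h : B →+* T, h.comp (algebraMap A B) = f := by
  let f' : Localization.Away g →+* T := IsLocalization.Away.lift g (g := f) hg
  have hf' : f'.comp (algebraMap A (Localization.Away g)) = f := IsLocalization.Away.lift_comp g hg
  have hk : I.map (algebraMap A (Localization.Away g)) ≤ RingHom.ker f' :=
    Ideal.map_le_iff_le_comap.2 fun a ha => (RingHom.congr_fun hf' a).trans (hI a ha)
  obtain ⟨h, hh⟩ := exists_extend _ hb f' fun a ha => hk ha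
  exact ⟨h, by rw [IsScalarTower.algebraMap_eq A (Localization.Away g) B, ← RingHom.comp_assoc, hh, hf']⟩

end away

theorem quot_bij {A B : Type u} [CommRing A] [CommRing B] [Algebra A B] {I : Ideal A}
    (hB : Hens2.IsPairHenselization A I B) :
    Function.Bijective (Ideal.quotientMap (I.map (algebraMap A B)) (algebraMap A B) Ideal.le_comap_map) := by
  have := (Groth.Agent.S1958.result A I B hB).2 1
  rwa [pow_one] at this

/-- A stage over a localization, as an algebra over the base. -/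
theorem exists_stage (g : A) (Hg : Type u) [CommRing Hg] [Algebra (Localization.Away g) Hg]
    [Algebra A Hg] [IsScalarTower A (Localization.Away g) Hg]
    (hHg : Hens2.IsPairHenselization (Localization.Away g) (I.map (algebraMap A (Localization.Away g))) Hg)
    (s : Hg) :
    ∃ (B : Type u) (_ : CommRing B) (_ : Algebra (Localization.Away g) B) (_ : Algebra A B)
      (_ : IsScalarTower A (Localization.Away g) B) (_ : Algebra.Etale A B),
      Function.Bijective (Ideal.quotientMap ((I.map (algebraMap A (Localization.Away g))).map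
        (algebraMap (Localization.Away g) B)) (algebraMap (Localization.Away g) B) Ideal.le_comap_map) ∧
      ∃ (f : B →ₐ[A] Hg) (b : B), f b = s := by
  obtain ⟨B, _, _, _, hb, φ, b, hφ⟩ := (Groth.Agent.S19568.result _ _ Hg hHg).2.1 s
  letI : Algebra A B := ((algebraMap (Localization.Away g) B).comp (algebraMap A _)).toAlgebra
  haveI : IsScalarTower A (Localization.Away g) B := IsScalarTower.of_algebraMap_eq' rfl
  haveI : Algebra.Etale A (Localization.Away g) := Algebra.Etale.of_isLocalizationAway g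
  haveI : Algebra.Etale A B := Algebra.Etale.comp A (Localization.Away g) B
  exact ⟨B, inferInstance, inferInstance, inferInstance, inferInstance, inferInstance, hb,
    φ.restrictScalars A, b, hφ⟩

variable (I)

variable {ι : Type u} (g : ι → A) (hcov : I ⊔ Ideal.span (Set.range g) = ⊤)
    {H : Type u} [CommRing H] [Algebra A H] (hH : Hens2.IsPairHenselization A I H)
    {Hi : ι → Type u} [∀ i, CommRing (Hi i)] [∀ i, Algebra (Localization.Away (g i)) (Hi i)]
    [∀ i, Algebra A (Hi i)] [∀ i, IsScalarTower A (Localization.Away (g i)) (Hi i)]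
    (hHi : ∀ i, Hens2.IsPairHenselization (Localization.Away (g i))
      (I.map (algebraMap A (Localization.Away (g i)))) (Hi i))
    {Hij : ι → ι → Type u} [∀ i j, CommRing (Hij i j)]
    [∀ i j, Algebra (Localization.Away (g i * g j)) (Hij i j)]
    [∀ i j, Algebra A (Hij i j)] [∀ i j, IsScalarTower A (Localization.Away (g i * g j)) (Hij i j)]
    (hHij : ∀ i j, Hens2.IsPairHenselization (Localization.Away (g i * g j))
      (I.map (algebraMap A (Localization.Away (g i * g j)))) (Hij i j))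
    (ρ : ∀ i, H →ₐ[A] Hi i) (σ : ∀ i j, Hi i →ₐ[A] Hij i j) (τ : ∀ i j, Hi j →ₐ[A] Hij i j)

include hH in
omit ι g in
theorem le_of_isMaximal (P : Ideal H) [P.IsMaximal] : I.map (algebraMap A H) ≤ P :=
  (hH.1.jac).trans (sInf_le ⟨bot_le, ‹P.IsMaximal›⟩ : Ideal.jacobson ⊥ ≤ P)

include hcov in
/-- The cover meets every map killing the ideal. -/
theorem exists_ne_zero {T : Type u} [CommRing T] [Nontrivial T] (r : A →+* T) (hI : ∀ a ∈ I, r a = 0) :
    ∃ i, r (g i) ≠ 0 := by
  by_contra hne
  push Not at hne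
  have : (⊤ : Ideal A) ≤ RingHom.ker r := hcov ▸ sup_le (fun a ha => hI a ha) (Ideal.span_le.2 (by
    rintro _ ⟨i, rfl⟩; exact hne i))
  exact one_ne_zero ((map_one r).symm.trans (this (Submodule.mem_top : (1 : A) ∈ (⊤ : Ideal A))))

include hcov hH hHi in
/-- Injectivity. -/
theorem eq_of_forall (x y : H) (h : ∀ i, ρ i x = ρ i y) : x = y := by
  rw [← sub_eq_zero]
  set d := x - y with hd
  obtain ⟨A1, _, _, _, hb, φ, a, ha⟩ := (Groth.Agent.S19568.result A I H hH).2.1 d
  have hann : ∀ P : Ideal H, P.IsMaximal → ∃ c ∉ P, c * d = 0 := by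
    intro P hP
    let r : H →+* H ⧸ P := Ideal.Quotient.mk P
    have hrI : ∀ b ∈ I, r (algebraMap A H b) = 0 := fun b hb' =>
      Ideal.Quotient.eq_zero_iff_mem.2 (le_of_isMaximal I hH P (Ideal.mem_map_of_mem _ hb'))
    letI : Field (H ⧸ P) := Ideal.Quotient.field P
    obtain ⟨i, hi⟩ := exists_ne_zero I g hcov (r.comp (algebraMap A H)) hrI
    obtain ⟨f, hf⟩ := exists_extend_away (quot_bij (hHi i)) (r.comp (algebraMap A H)) hrI (Ne.isUnit hi)
    let ψ : A1 →ₐ[A] Hi i := (ρ i).comp φ
    have hagree : r.comp φ.toRingHom = f.comp ψ.toRingHom := by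
      refine hom_ext_of_surjective I hb.2 ?_ fun b hb' => ?_
      · rw [RingHom.comp_assoc, RingHom.comp_assoc]
        rw [show φ.toRingHom.comp (algebraMap A A1) = algebraMap A H from φ.comp_algebraMap,
          show ψ.toRingHom.comp (algebraMap A A1) = algebraMap A (Hi i) from ψ.comp_algebraMap, hf]
      · show r (φ (algebraMap A A1 b)) = 0
        rw [φ.commutes]; exact hrI b hb'
    letI : Algebra A1 (Hi i) := ψ.toRingHom.toAlgebra
    haveI : IsScalarTower A A1 (Hi i) := IsScalarTower.of_algebraMap_eq fun b => (ψ.commutes b).symm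
    haveI : Module.Flat A (Localization.Away (g i)) := IsLocalization.flat _ (Submonoid.powers (g i))
    haveI : Module.Flat (Localization.Away (g i)) (Hi i) := (Groth.Agent.S1958.result _ _ _ (hHi i)).1
    haveI : Module.Flat A (Hi i) := Module.Flat.trans A (Localization.Away (g i)) (Hi i)
    haveI : Module.Flat A1 (Hi i) := GrothLib.RGProj13.flat_of_unramified_module A A1 (Hi i)
    obtain ⟨c, hc, hca⟩ := exists_mul_eq_zero_of_flat f (d := a) (e := 1)
      (by rw [map_one]; exact one_ne_zero) (by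
        show ρ i (φ a) * 1 = 0
        rw [ha, mul_one, hd, map_sub, h i, sub_self])
    refine ⟨φ c, fun hmem => hc ?_, by rw [← ha, ← map_mul, hca, map_zero]⟩
    exact (RingHom.congr_fun hagree c).symm.trans (Ideal.Quotient.eq_zero_iff_mem.2 hmem)
  by_contra hne
  obtain ⟨P, hP, hle⟩ := Ideal.exists_le_maximal (LinearMap.ker (LinearMap.toSpanSingleton H H d))
    (fun ht => hne (by
      have : (1 : H) ∈ LinearMap.ker (LinearMap.toSpanSingleton H H d) := ht ▸ Submodule.mem_top
      simpa using this))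
  obtain ⟨c, hc, hcd⟩ := hann P hP
  exact hc (hle (by simpa using hcd))

include hcov hH hHi hHij in
/-- Gluing. -/
theorem exists_glued (s : ∀ i, Hi i) (hs : ∀ i j, σ i j (s i) = τ i j (s j)) :
    ∃ x : H, ∀ i, ρ i x = s i := by
  classical
  have hst := fun i => exists_stage (g i) (Hi i) (hHi i) (s i)
  choose B iR iL iA iT iE hbij f b hfb using hst
  let J : Ideal H := I.map (algebraMap A H)
  haveI : HenselianRing H J := hH.1
  let Q : ι → Type u := fun i => Localization.Away (Ideal.Quotient.mk J (algebraMap A H (g i)))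
  let qm : ∀ i, H →+* Q i := fun i => (algebraMap (H ⧸ J) (Q i)).comp (Ideal.Quotient.mk J)
  have hqI : ∀ i, ∀ a ∈ I, qm i (algebraMap A H a) = 0 := fun i a ha => by
    show algebraMap (H ⧸ J) (Q i) (Ideal.Quotient.mk J _) = 0
    rw [Ideal.Quotient.eq_zero_iff_mem.2 (Ideal.mem_map_of_mem _ ha), map_zero]
  have hα : ∀ i, ∃ α : B i →+* Q i, α.comp (algebraMap A (B i)) = (qm i).comp (algebraMap A H) := fun i =>
    exists_extend_away (hbij i) _ (hqI i)
      (IsLocalization.Away.algebraMap_isUnit (S := Q i) (Ideal.Quotient.mk J (algebraMap A H (g i))))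
  choose α hαA using hα
  let ψ : ∀ i, (H ⊗[A] B i) →+* Q i := fun i =>
    (Algebra.TensorProduct.lift
      (⟨qm i, fun y => (IsScalarTower.algebraMap_apply A (H ⧸ J) (Q i) y).symm⟩ : H →ₐ[A] Q i)
      (⟨α i, fun y => (RingHom.congr_fun (hαA i) y).trans
        (IsScalarTower.algebraMap_apply A (H ⧸ J) (Q i) y).symm⟩ : B i →ₐ[A] Q i)
      (fun _ _ => Commute.all _ _)).toRingHom
  have hψ : ∀ i (h : H) (x : B i), ψ i (h ⊗ₜ x) = qm i h * α i x := fun i h x =>
    Algebra.TensorProduct.lift_tmul _ _ _ h x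
  have hψl : ∀ i (h : H), ψ i (h ⊗ₜ 1) = qm i h := fun i h => by
    rw [hψ, map_one, mul_one]
  have hψH : ∀ i, (ψ i).comp (algebraMap H (H ⊗[A] B i)) = qm i := fun i => RingHom.ext (hψl i)
  let a : Spec (CommRingCat.of (H ⧸ J)) ⟶ S0 H := Spec.map (CommRingCat.ofHom (Ideal.Quotient.mk J))
  let v : ∀ i, Spec (CommRingCat.of (Q i)) ⟶ Spec (CommRingCat.of (H ⧸ J)) := fun i =>
    Spec.map (CommRingCat.ofHom (algebraMap (H ⧸ J) (Q i)))
  have hv : ∀ i, Etale (v i) := fun i => by
    haveI : Algebra.Etale (H ⧸ J) (Q i) :=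
      Algebra.Etale.of_isLocalizationAway (Ideal.Quotient.mk J (algebraMap A H (g i)))
    exact etale_specMap (H ⧸ J) (Q i)
  let m : ∀ i, Spec (CommRingCat.of (Q i)) ⟶ (obj H (H ⊗[A] B i)).left := fun i =>
    Spec.map (CommRingCat.ofHom (ψ i))
  have hm : ∀ i, m i ≫ (obj H (H ⊗[A] B i)).hom = v i ≫ a := fun i => by
    show Spec.map _ ≫ Spec.map _ = Spec.map _ ≫ Spec.map _
    rw [← Spec.map_comp, ← Spec.map_comp, ← CommRingCat.ofHom_comp, hψH i]
    rfl
  let S : ∀ i, Secs (v i ≫ a) (O0 H) := fun i =>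
    Secs.ofSect (m i) (hm i) (sec H (H ⊗[A] B i) (1 ⊗ₜ b i))
  have hval : ∀ (i : ι) (Ω : Type u) [Field Ω] [IsSepClosed Ω] (χ : Q i →+* Ω) (r : H →+* Ω)
      (hr : χ.comp (qm i) = r) (hp : Spec.map (CommRingCat.ofHom χ) ≫ v i ≫ a = Spec.map (CommRingCat.ofHom r)),
      (S i).val Ω (Spec.map (CommRingCat.ofHom χ)) (Spec.map (CommRingCat.ofHom r)) hp =
        gv r (χ.comp (ψ i)) (by rw [RingHom.comp_assoc, hψH i, hr]) (1 ⊗ₜ b i) := by
    intro i Ω _ _ χ r hr hp
    refine gSh_congr ?_ _ _ _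
    show Spec.map _ ≫ Spec.map _ = Spec.map _
    rw [← Spec.map_comp, ← CommRingCat.ofHom_comp]
  have hcovV : ∀ z : Spec (CommRingCat.of (H ⧸ J)), ∃ (i : ι) (z' : Spec (CommRingCat.of (Q i))),
      (v i).base z' = z := by
    intro z
    let r : A →+* (H ⧸ J) ⧸ z.asIdeal :=
      (Ideal.Quotient.mk z.asIdeal).comp ((Ideal.Quotient.mk J).comp (algebraMap A H))
    obtain ⟨i, hi⟩ := exists_ne_zero I g hcov r fun a ha => by
      show Ideal.Quotient.mk z.asIdeal (Ideal.Quotient.mk J (algebraMap A H a)) = 0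
      rw [Ideal.Quotient.eq_zero_iff_mem.2 (Ideal.mem_map_of_mem _ ha), map_zero]
    have : z ∈ Set.range (PrimeSpectrum.comap (algebraMap (H ⧸ J) (Q i))) := by
      rw [PrimeSpectrum.localization_away_comap_range (Q i) (Ideal.Quotient.mk J (algebraMap A H (g i)))]
      exact fun hz => hi (Ideal.Quotient.eq_zero_iff_mem.2 hz)
    obtain ⟨z', hz'⟩ := this
    exact ⟨i, z', hz'⟩
  obtain ⟨σ₀, hσ₀⟩ := Secs.exists_glue (a := a) (F := O0 H) _ v hv hcovV S (by
    intro i j Ω _ _ p q η hp hq hpq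
    obtain ⟨χ, rfl⟩ : ∃ χ : Q i →+* Ω, p = Spec.map (CommRingCat.ofHom χ) :=
      ⟨(Spec.preimage p).hom, (Spec.map_preimage p).symm⟩
    obtain ⟨χ', rfl⟩ : ∃ χ' : Q j →+* Ω, q = Spec.map (CommRingCat.ofHom χ') :=
      ⟨(Spec.preimage q).hom, (Spec.map_preimage q).symm⟩
    have hpq' : χ.comp (algebraMap (H ⧸ J) (Q i)) = χ'.comp (algebraMap (H ⧸ J) (Q j)) := by
      have : CommRingCat.ofHom (algebraMap (H ⧸ J) (Q i)) ≫ CommRingCat.ofHom χ =
          CommRingCat.ofHom (algebraMap (H ⧸ J) (Q j)) ≫ CommRingCat.ofHom χ' :=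
        Spec.map_injective (by rw [Spec.map_comp, Spec.map_comp]; exact hpq)
      exact congrArg CommRingCat.Hom.hom this
    let r : H →+* Ω := χ.comp (qm i)
    have hr' : χ'.comp (qm j) = r := congrArg (RingHom.comp · (Ideal.Quotient.mk J)) hpq'.symm
    obtain rfl : η = Spec.map (CommRingCat.ofHom r) := by
      rw [← hp]
      show Spec.map _ ≫ Spec.map _ ≫ Spec.map _ = Spec.map _
      rw [← Spec.map_comp, ← Spec.map_comp, ← CommRingCat.ofHom_comp, ← CommRingCat.ofHom_comp]
    rw [hval i Ω χ r rfl hp, hval j Ω χ' r hr' hq]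
    let rA : A →+* Ω := r.comp (algebraMap A H)
    have hrI : ∀ x ∈ I, rA x = 0 := fun x hx => by
      show χ (qm i (algebraMap A H x)) = 0
      rw [hqI i x hx, map_zero]
    have hu : ∀ k (χ₀ : Q k →+* Ω), χ₀.comp (qm k) = r → IsUnit (rA (g k)) := fun k χ₀ h0 => by
      show IsUnit (r (algebraMap A H (g k)))
      rw [← h0]
      exact (IsLocalization.Away.algebraMap_isUnit (S := Q k) (Ideal.Quotient.mk J (algebraMap A H (g k)))).map χ₀
    obtain ⟨f', hf'⟩ := exists_extend_away (quot_bij (hHij i j)) rA hrI (by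
      rw [map_mul]; exact (hu i χ rfl).mul (hu j χ' hr'))
    let fi : B i →ₐ[A] Hij i j := (σ i j).comp (f i)
    let fj : B j →ₐ[A] Hij i j := (τ i j).comp (f j)
    have key : ∀ k (χ₀ : Q k →+* Ω), χ₀.comp (qm k) = r → ∀ fk : B k →ₐ[A] Hij i j,
        f'.comp fk.toRingHom = χ₀.comp (α k) := fun k χ₀ h0 fk => by
      refine hom_ext_away (hbij k).2 ?_ fun x hx => ?_
      · rw [RingHom.comp_assoc, RingHom.comp_assoc, hαA k,
          show fk.toRingHom.comp (algebraMap A (B k)) = algebraMap A (Hij i j) from fk.comp_algebraMap,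
          hf', ← RingHom.comp_assoc, h0]
      · show f' (fk (algebraMap A (B k) x)) = 0
        rw [fk.commutes]
        exact (RingHom.congr_fun hf' x).trans (hrI x hx)
    let C : Type u := B i ⊗[A] B j
    haveI : Algebra.Etale A C := Algebra.Etale.comp A (B i) C
    let F : C →ₐ[A] Hij i j := Algebra.TensorProduct.lift fi fj fun _ _ => Commute.all _ _
    have hC : f'.comp F.toRingHom = (f'.comp F.toRingHom) := rfl
    letI : Algebra C (Hij i j) := F.toRingHom.toAlgebra
    haveI : IsScalarTower A C (Hij i j) := IsScalarTower.of_algebraMap_eq fun x => (F.commutes x).symm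
    haveI : Module.Flat A (Localization.Away (g i * g j)) :=
      IsLocalization.flat _ (Submonoid.powers (g i * g j))
    haveI : Module.Flat (Localization.Away (g i * g j)) (Hij i j) :=
      (Groth.Agent.S1958.result _ _ _ (hHij i j)).1
    haveI : Module.Flat A (Hij i j) := Module.Flat.trans A (Localization.Away (g i * g j)) (Hij i j)
    haveI : Module.Flat C (Hij i j) := GrothLib.RGProj13.flat_of_unramified_module A C (Hij i j)
    obtain ⟨c, hc, hcd⟩ := exists_mul_eq_zero_of_flat f' (d := (b i ⊗ₜ 1 - 1 ⊗ₜ b j : C)) (e := 1)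
      (by rw [map_one]; exact one_ne_zero) (by
        show F _ * 1 = 0
        rw [mul_one, map_sub, Algebra.TensorProduct.lift_tmul, Algebra.TensorProduct.lift_tmul,
          map_one, map_one, mul_one, one_mul, sub_eq_zero]
        show σ i j (f i (b i)) = τ i j (f j (b j))
        rw [hfb, hfb, hs])
    let θ : H ⊗[A] C →+* Ω :=
      letI : Algebra A Ω := rA.toAlgebra
      (Algebra.TensorProduct.lift (⟨r, fun _ => rfl⟩ : H →ₐ[A] Ω)
        (⟨f'.comp F.toRingHom, fun x => (congrArg f' (F.commutes x)).trans (RingHom.congr_fun hf' x)⟩ :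
          C →ₐ[A] Ω) (fun _ _ => Commute.all _ _)).toRingHom
    have hθ : ∀ (h : H) (x : C), θ (h ⊗ₜ x) = r h * f' (F x) := fun _ _ => rfl
    have hθH : θ.comp (algebraMap H (H ⊗[A] C)) = r := RingHom.ext fun h => by
      show θ (h ⊗ₜ 1) = r h
      rw [hθ, map_one, map_one, mul_one]
    let φi : (H ⊗[A] B i) →ₐ[H] H ⊗[A] C :=
      Algebra.TensorProduct.map (AlgHom.id H H) (Algebra.TensorProduct.includeLeft : B i →ₐ[A] C)
    let φj : (H ⊗[A] B j) →ₐ[H] H ⊗[A] C :=
      Algebra.TensorProduct.map (AlgHom.id H H) (Algebra.TensorProduct.includeRight : B j →ₐ[A] C)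
    have hi : θ.comp φi.toRingHom = χ.comp (ψ i) := by
      refine RingHom.ext fun z => ?_
      induction z with
      | zero => simp only [map_zero]
      | add x y hx hy => simp only [map_add, hx, hy]
      | tmul h x =>
        show θ (h ⊗ₜ (x ⊗ₜ (1 : B j))) = χ (ψ i (h ⊗ₜ x))
        rw [hθ, hψ, Algebra.TensorProduct.lift_tmul, map_one, mul_one, map_mul]
        exact congrArg (r h * ·) (RingHom.congr_fun (key i χ rfl fi) x)
    have hj : θ.comp φj.toRingHom = χ'.comp (ψ j) := by
      refine RingHom.ext fun z => ?_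
      induction z with
      | zero => simp only [map_zero]
      | add x y hx hy => simp only [map_add, hx, hy]
      | tmul h x =>
        show θ (h ⊗ₜ ((1 : B i) ⊗ₜ x)) = χ' (ψ j (h ⊗ₜ x))
        rw [hθ, hψ, Algebra.TensorProduct.lift_tmul, map_one, one_mul, map_mul, ← hr']
        exact congrArg (χ' (qm j h) * ·) (RingHom.congr_fun (key j χ' hr' fj) x)
    rw [gv_map r θ hθH φi _ _ hi, gv_map r θ hθH φj _ _ hj]
    refine gv_eq_of_mul_eq r θ hθH (c := (1 : H) ⊗ₜ c) ?_ ?_
    · rw [hθ, map_one, one_mul]; exact hc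
    · show (1 : H) ⊗ₜ c * ((1 : H) ⊗ₜ (b i ⊗ₜ (1 : B j))) = (1 : H) ⊗ₜ c * ((1 : H) ⊗ₜ ((1 : B i) ⊗ₜ b j))
      rw [Algebra.TensorProduct.tmul_mul_tmul, Algebra.TensorProduct.tmul_mul_tmul]
      rw [mul_sub, sub_eq_zero] at hcd
      rw [hcd])
  haveI : IsClosedImmersion a := IsClosedImmersion.spec_of_surjective _ Ideal.Quotient.mk_surjective
  obtain ⟨σ₁, hσ₁⟩ := (GrothLib.PropH0.restrict_bijective a (F := O0 H)
    (GrothLib.PropH0.connOnIntegral_of_proper a J (𝟙 _) (GrothLib.PropH0.range_specMap_quotient J))).2 σ₀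
  obtain ⟨t, ht⟩ := (secOf_bijective (O0 H) (EtCoh.top (S0 H))).2 σ₁
  let x : H := (Scheme.ΓSpecIso (CommRingCat.of H)).hom.hom (t : ULift.{u + 1} Γ(S0 H, ⊤)).down
  have hid : Spec.map (CommRingCat.ofHom (algebraMap H H)) = 𝟙 (S0 H) := Spec.map_id _
  let k : obj H H ⟶ EtCoh.top (S0 H) := MorphismProperty.Over.homMk (𝟙 _) (by
    show 𝟙 (S0 H) ≫ 𝟙 (S0 H) = Spec.map _
    rw [hid, Category.id_comp])
  have hk : (O0 H).obj.map k.op t = sec H H x := by
    refine congrArg ULift.up ?_
    show (Scheme.Hom.appTop (𝟙 (S0 H))).hom (t : ULift.{u + 1} Γ(S0 H, ⊤)).down = _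
    rw [Scheme.Hom.id_appTop]
    exact ((Scheme.ΓSpecIso (CommRingCat.of H)).commRingCatIsoToRingEquiv.symm_apply_apply _).symm
  refine ⟨x, fun i => ?_⟩
  rw [← sub_eq_zero]
  by_contra hne
  obtain ⟨P, hP, hle⟩ := Ideal.exists_le_maximal (LinearMap.ker (LinearMap.toSpanSingleton (Hi i) (Hi i) (ρ i x - s i)))
    (fun htop => hne (by
      have : (1 : Hi i) ∈ LinearMap.ker (LinearMap.toSpanSingleton (Hi i) (Hi i) (ρ i x - s i)) :=
        htop ▸ Submodule.mem_top
      simpa using this))
  letI : Field (Hi i ⧸ P) := Ideal.Quotient.field P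
  let Ω : Type u := AlgebraicClosure (Hi i ⧸ P)
  let π : Hi i →+* Ω := (algebraMap (Hi i ⧸ P) Ω).comp (Ideal.Quotient.mk P)
  let r : H →+* Ω := π.comp (ρ i).toRingHom
  have hPI : (I.map (algebraMap A (Localization.Away (g i)))).map (algebraMap _ (Hi i)) ≤ P :=
    (hHi i).1.jac.trans (sInf_le ⟨bot_le, hP⟩ : Ideal.jacobson ⊥ ≤ P)
  have hrI : ∀ y ∈ I, π (algebraMap A (Hi i) y) = 0 := fun y hy => by
    show algebraMap (Hi i ⧸ P) Ω (Ideal.Quotient.mk P (algebraMap A (Hi i) y)) = 0
    rw [IsScalarTower.algebraMap_apply A (Localization.Away (g i)) (Hi i),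
      Ideal.Quotient.eq_zero_iff_mem.2 (hPI (Ideal.mem_map_of_mem _ (Ideal.mem_map_of_mem _ hy))), map_zero]
  have hrA : r.comp (algebraMap A H) = π.comp (algebraMap A (Hi i)) := by
    rw [RingHom.comp_assoc, show (ρ i).toRingHom.comp (algebraMap A H) = algebraMap A (Hi i) from (ρ i).comp_algebraMap]
  have hrJ : ∀ y ∈ J, r y = 0 := fun y hy =>
    (Ideal.map_le_iff_le_comap.2 (fun z hz => (RingHom.congr_fun hrA z).trans (hrI z hz)) : J ≤ RingHom.ker r) hy
  have hgu : IsUnit (Ideal.Quotient.lift J r hrJ (Ideal.Quotient.mk J (algebraMap A H (g i)))) := by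
    rw [Ideal.Quotient.lift_mk, ← RingHom.comp_apply, hrA, RingHom.comp_apply,
      IsScalarTower.algebraMap_apply A (Localization.Away (g i)) (Hi i)]
    exact ((IsLocalization.Away.algebraMap_isUnit (S := Localization.Away (g i)) (g i)).map _).map π
  let χ : Q i →+* Ω := IsLocalization.Away.lift _ (g := Ideal.Quotient.lift J r hrJ) hgu
  have hχ : χ.comp (qm i) = r := by
    rw [← RingHom.comp_assoc, IsLocalization.Away.lift_comp _ hgu]; exact Ideal.Quotient.lift_comp_mk J r hrJ
  have hp : Spec.map (CommRingCat.ofHom χ) ≫ v i ≫ a = Spec.map (CommRingCat.ofHom r) := by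
    show Spec.map _ ≫ Spec.map _ ≫ Spec.map _ = Spec.map _
    rw [← Spec.map_comp, ← Spec.map_comp, ← CommRingCat.ofHom_comp, ← CommRingCat.ofHom_comp, ← hχ]
  have hrr : r.comp (algebraMap H H) = r := RingHom.comp_id r
  have hψr' : (χ.comp (ψ i)).comp (algebraMap H (H ⊗[A] B i)) = r := by rw [RingHom.comp_assoc, hψH i, hχ]
  have hπf : π.comp (f i).toRingHom = χ.comp (α i) := by
    refine hom_ext_away (hbij i).2 ?_ fun y hy => ?_
    · exact ((RingHom.comp_assoc _ _ _).trans ((congrArg π.comp (f i).comp_algebraMap).trans hrA.symm)).trans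
        ((congrArg (RingHom.comp · (algebraMap A H)) hχ.symm).trans
          ((RingHom.comp_assoc _ _ _).trans ((congrArg χ.comp (hαA i)).symm.trans (RingHom.comp_assoc _ _ _).symm)))
    · show π (f i (algebraMap A (B i) y)) = 0
      rw [(f i).commutes]; exact hrI y hy
  have hgv : gv r r hrr x = gv r (χ.comp (ψ i)) hψr' (1 ⊗ₜ b i) := by
    rw [← hval i Ω χ r hχ hp, ← hσ₀ i, Secs.res_val, ← hσ₁, Secs.res_val, ← ht, secOf_val, gv, ← hk]
    refine (gSh_map k _ _ (by
      show (Spec.map _ ≫ 𝟙 (S0 H)) ≫ 𝟙 (S0 H) = Spec.map _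
      rw [Category.comp_id, Category.comp_id]) t).trans (gSh_congr ?_ _ _ t)
    show Spec.map _ ≫ 𝟙 (S0 H) = (Spec.map _ ≫ Spec.map _) ≫ Spec.map _
    rw [Category.comp_id, ← Spec.map_comp, ← Spec.map_comp, ← CommRingCat.ofHom_comp,
      ← CommRingCat.ofHom_comp, ← hχ]
  rw [gv_map r (χ.comp (ψ i)) hψr' (Algebra.ofId H (H ⊗[A] B i)) r hrr hψr'] at hgv
  obtain ⟨c, hc, hcx⟩ := exists_mul_eq_of_gv_eq r _ hψr' hgv
  let Φ : H ⊗[A] B i →ₐ[A] Hi i := Algebra.TensorProduct.lift (ρ i) (f i) fun _ _ => Commute.all _ _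
  have hΦ : π.comp Φ.toRingHom = χ.comp (ψ i) := by
    refine RingHom.ext fun z => ?_
    induction z with
    | zero => simp only [map_zero]
    | add x y hx hy => simp only [map_add, hx, hy]
    | tmul h y =>
      show π (Φ (h ⊗ₜ y)) = χ (ψ i (h ⊗ₜ y))
      rw [hψ, Algebra.TensorProduct.lift_tmul, map_mul, map_mul]
      exact congrArg₂ (· * ·) (RingHom.congr_fun hχ.symm h) (RingHom.congr_fun hπf y)
  refine hc ?_
  rw [← hΦ]
  show π (Φ c) = 0
  have hmem : Φ c ∈ P := hle (by
    show Φ c * (ρ i x - s i) = 0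
    have h2 : Φ c * Φ (x ⊗ₜ 1) = Φ c * Φ (1 ⊗ₜ b i) := by
      rw [← map_mul, ← map_mul]; exact congrArg Φ hcx
    rw [Algebra.TensorProduct.lift_tmul, Algebra.TensorProduct.lift_tmul, map_one, map_one, mul_one,
      one_mul, hfb] at h2
    rw [mul_sub, h2, sub_self])
  show algebraMap (Hi i ⧸ P) Ω (Ideal.Quotient.mk P (Φ c)) = 0
  rw [Ideal.Quotient.eq_zero_iff_mem.2 hmem, map_zero]

end GrothLib.HSheaf4
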