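import Groth.Agent.Lib.EtSec.Global
import Groth.Agent.Lib.EtSec.AbCompare
import Groth.Prelude.Def_EtGm
import Mathlib.RingTheory.Flat.EquationalCriterion
import Mathlib.RingTheory.Etale.Basic
import Groth.Agent.Lib.RGProj13.UnramifiedFlat

/-!
# Stalks of the structure sheaf on the étale site of an affine scheme, on étale algebras
-/

set_option autoImplicit false
set_option backward.isDefEq.respectTransparency.types false

universe u

open CategoryTheory CategoryTheory.Limits AlgebraicGeometry Opposite TensorProduct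
open GrothLib.EtSite GrothLib.EtSec

noncomputable section

namespace GrothLib.HSheaf4

/-- In a flat algebra, annihilators come from annihilators. -/
theorem exists_mul_eq_zero_of_flat {B C : Type u} [CommRing B] [CommRing C] [Algebra B C]
    [Module.Flat B C] {T : Type u} [Field T] (θ : C →+* T) {d : B} {e : C} (he : θ e ≠ 0)
    (h : algebraMap B C d * e = 0) : ∃ c : B, θ (algebraMap B C c) ≠ 0 ∧ c * d = 0 := by
  obtain ⟨k, a, y, hy, ha⟩ := Module.Flat.isTrivialRelation_of_sum_smul_eq_zero
    (R := B) (M := C) (f := fun _ : Fin 1 => d) (x := fun _ : Fin 1 => e) (by simpa [Algebra.smul_def] using h)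
  have h' : e = ∑ j, a 0 j • y j := hy 0
  by_contra hne
  push Not at hne
  refine he ?_
  rw [h', map_sum]
  refine Finset.sum_eq_zero fun j _ => ?_
  rw [Algebra.smul_def, map_mul]
  have hd : a 0 j * d = 0 := by
    have := ha j
    simpa [mul_comm] using this
  by_cases hz : θ (algebraMap B C (a 0 j)) = 0
  · rw [hz, zero_mul]
  · exact absurd hd (hne _ hz)

variable (R : Type u) [CommRing R]

/-- The spectrum. -/
abbrev S0 : Scheme.{u} := Spec (CommRingCat.of R)

/-- The structure sheaf as a sheaf of sets. -/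
abbrev O0 : EtDesc.Sh (S0 R) := forgetSh (EtCoh.Ga (S0 R))

variable (B : Type u) [CommRing B] [Algebra R B] [Algebra.Etale R B]

instance etale_specMap : Etale (Spec.map (CommRingCat.ofHom (algebraMap R B))) := by
  rw [HasRingHomProperty.Spec_iff (P := @Etale)]
  exact RingHom.etale_algebraMap.2 inferInstance

/-- An étale algebra as an object of the étale site. -/
abbrev obj : (S0 R).Etale := Scheme.Etale.mk (Spec.map (CommRingCat.ofHom (algebraMap R B)))

/-- An element as a section. -/
def sec (b : B) : EtDesc.sect (O0 R) (obj R B) :=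
  (ULift.up ((Scheme.ΓSpecIso (CommRingCat.of B)).inv.hom b) : ULift.{u + 1} Γ(Spec (CommRingCat.of B), ⊤))

variable {R B}
variable {B' : Type u} [CommRing B'] [Algebra R B'] [Algebra.Etale R B']

/-- An algebra map as a morphism of étale schemes. -/
def mor (φ : B →ₐ[R] B') : obj R B' ⟶ obj R B :=
  MorphismProperty.Over.homMk (Spec.map (CommRingCat.ofHom φ.toRingHom)) (by
    show Spec.map _ ≫ Spec.map _ = Spec.map _
    rw [← Spec.map_comp, ← CommRingCat.ofHom_comp]
    exact congrArg (fun q : R →+* B' => Spec.map (CommRingCat.ofHom q)) φ.comp_algebraMap)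

theorem sec_map (φ : B →ₐ[R] B') (b : B) :
    (O0 R).obj.map (mor φ).op (sec R B b) = sec R B' (φ b) := by
  refine congrArg ULift.up ?_
  exact (ConcreteCategory.congr_hom (Scheme.ΓSpecIso_inv_naturality (CommRingCat.ofHom φ.toRingHom)) b).symm

variable {Ω : Type u} [Field Ω] [IsSepClosed Ω]

theorem point_cond {r : R →+* Ω} {χ : B →+* Ω} (hχ : χ.comp (algebraMap R B) = r) :
    Spec.map (CommRingCat.ofHom χ) ≫ (obj R B).hom = Spec.map (CommRingCat.ofHom r) := by
  show Spec.map _ ≫ Spec.map _ = Spec.map _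
  rw [← Spec.map_comp, ← CommRingCat.ofHom_comp, hχ]

/-- The germ of an element at a geometric point. -/
def gv (r : R →+* Ω) (χ : B →+* Ω) (hχ : χ.comp (algebraMap R B) = r) (b : B) :
    (stalkSh (Spec.map (CommRingCat.ofHom r))).obj (O0 R) :=
  gSh (O0 R) (W := obj R B) (Spec.map (CommRingCat.ofHom χ)) (point_cond hχ) (sec R B b)

theorem gv_map (r : R →+* Ω) (χ : B' →+* Ω) (hχ : χ.comp (algebraMap R B') = r) (φ : B →ₐ[R] B')
    (χ₀ : B →+* Ω) (hχ₀ : χ₀.comp (algebraMap R B) = r) (h : χ.comp φ.toRingHom = χ₀) (b : B) :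
    gv r χ₀ hχ₀ b = gv r χ hχ (φ b) := by
  have e : Spec.map (CommRingCat.ofHom χ) ≫ (mor φ).left = Spec.map (CommRingCat.ofHom χ₀) := by
    show Spec.map _ ≫ Spec.map _ = Spec.map _
    rw [← Spec.map_comp, ← CommRingCat.ofHom_comp, h]
  rw [gv, gv, ← sec_map φ b, gSh_map (mor φ) _ (point_cond hχ) ((congrArg (· ≫ (obj R B).hom) e).trans (point_cond hχ₀))]
  exact gSh_congr e.symm _ _ _

/-- Elements agreeing after multiplication by an element not vanishing at the point have equal germs. -/
theorem gv_eq_of_mul_eq (r : R →+* Ω) (χ : B →+* Ω) (hχ : χ.comp (algebraMap R B) = r) {b b' c : B}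
    (hc : χ c ≠ 0) (h : c * b = c * b') : gv r χ hχ b = gv r χ hχ b' := by
  let χ' : Localization.Away c →+* Ω := IsLocalization.Away.lift c (g := χ) (Ne.isUnit hc)
  have hcomp : χ'.comp (IsScalarTower.toAlgHom R B (Localization.Away c)).toRingHom = χ :=
    IsLocalization.Away.lift_comp c (Ne.isUnit hc)
  have hχ' : χ'.comp (algebraMap R (Localization.Away c)) = r := by
    rw [IsScalarTower.algebraMap_eq R B (Localization.Away c), ← RingHom.comp_assoc]
    exact (congrArg (RingHom.comp · (algebraMap R B)) hcomp).trans hχ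
  haveI : Algebra.Etale B (Localization.Away c) := Algebra.Etale.of_isLocalizationAway c
  haveI : Algebra.Etale R (Localization.Away c) := Algebra.Etale.comp R B _
  rw [gv_map r χ' hχ' _ χ hχ hcomp b, gv_map r χ' hχ' _ χ hχ hcomp b']
  refine congrArg (gv r χ' hχ') ((IsLocalization.Away.algebraMap_isUnit (S := Localization.Away c) c).mul_left_cancel ?_)
  exact ((map_mul _ c b).symm.trans (congrArg _ h)).trans (map_mul _ c b')

/-- Equal germs: the elements agree near the point. -/
theorem exists_mul_eq_of_gv_eq (r : R →+* Ω) (χ : B →+* Ω) (hχ : χ.comp (algebraMap R B) = r) {b b' : B}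
    (h : gv r χ hχ b = gv r χ hχ b') : ∃ c : B, χ c ≠ 0 ∧ c * b = c * b' := by
  obtain ⟨W, r₁, r₂, l, hl, hl₁, hl₂, hr⟩ := gSh_eq h
  obtain ⟨U, hU, hlU, -⟩ := exists_isAffineOpen_mem_and_subset (U := (⊤ : W.left.Opens))
    (x := l.base default) trivial
  let C : Type u := Γ(W.left, U)
  let jU : Spec (CommRingCat.of C) ⟶ W.left := hU.fromSpec
  haveI : IsOpenImmersion jU := inferInstanceAs (IsOpenImmersion hU.fromSpec)
  have hlr : Set.range l.base ⊆ Set.range jU.base := by
    rintro _ ⟨x, rfl⟩
    rw [Subsingleton.elim x default]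
    show _ ∈ Set.range hU.fromSpec.base
    rw [hU.range_fromSpec]; exact hlU
  let lC : Spec (CommRingCat.of Ω) ⟶ Spec (CommRingCat.of C) := IsOpenImmersion.lift jU l hlr
  have hlC : lC ≫ jU = l := IsOpenImmersion.lift_fac jU l hlr
  let θ : C →+* Ω := (Spec.preimage lC).hom
  have hθ : Spec.map (CommRingCat.ofHom θ) = lC := Spec.map_preimage lC
  letI : Algebra R C := (Spec.preimage (jU ≫ W.hom)).hom.toAlgebra
  have halg : Spec.map (CommRingCat.ofHom (algebraMap R C)) = jU ≫ W.hom := Spec.map_preimage _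
  haveI : Algebra.Etale R C := by
    haveI : Etale W.hom := W.prop
    have h' : Etale (Spec.map (CommRingCat.ofHom (algebraMap R C))) := halg ▸ inferInstance
    exact RingHom.etale_algebraMap.1 ((HasRingHomProperty.Spec_iff (P := @Etale)).1 h')
  have hw : ∀ q : W ⟶ obj R B, q.left ≫ Spec.map (CommRingCat.ofHom (algebraMap R B)) = W.hom := fun q =>
    hom_left q
  let φ : (W ⟶ obj R B) → (B →ₐ[R] C) := fun q =>
    { toRingHom := (Spec.preimage (jU ≫ q.left)).hom
      commutes' := fun x => by
        have : CommRingCat.ofHom (algebraMap R B) ≫ Spec.preimage (jU ≫ q.left) =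
            CommRingCat.ofHom (algebraMap R C) := Spec.map_injective (by
          rw [Spec.map_comp, Spec.map_preimage, halg]
          exact (Category.assoc _ _ _).trans (congrArg (jU ≫ ·) (hw q)))
        exact ConcreteCategory.congr_hom this x }
  have hφ : ∀ q : W ⟶ obj R B, Spec.map (CommRingCat.ofHom (φ q).toRingHom) = jU ≫ q.left := fun q =>
    Spec.map_preimage _
  have hθφ : ∀ q : W ⟶ obj R B, l ≫ q.left = Spec.map (CommRingCat.ofHom χ) → θ.comp (φ q).toRingHom = χ :=
    fun q hq => by
      have : CommRingCat.ofHom (φ q).toRingHom ≫ CommRingCat.ofHom θ = CommRingCat.ofHom χ :=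
        Spec.map_injective (by
          rw [Spec.map_comp, hθ, hφ]
          exact (Category.assoc _ _ _).symm.trans ((congrArg (· ≫ q.left) hlC).trans hq))
      exact congrArg CommRingCat.Hom.hom this
  have hθ₁ := hθφ r₁ hl₁
  have hθ₂ := hθφ r₂ hl₂
  let k : obj R C ⟶ W := MorphismProperty.Over.homMk jU halg.symm
  have hk : ∀ q : W ⟶ obj R B, k ≫ q = mor (φ q) := fun q =>
    MorphismProperty.Over.Hom.ext (hφ q).symm
  have heq : φ r₁ b = φ r₂ b' := by
    have h2 := congrArg ((O0 R).obj.map k.op) hr
    rw [← Functor.map_comp_apply, ← Functor.map_comp_apply, ← op_comp, ← op_comp, hk, hk, sec_map, sec_map] at h2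
    exact ((Scheme.ΓSpecIso (CommRingCat.of C)).commRingCatIsoToRingEquiv.symm.injective (congrArg ULift.down h2))
  let Φ : B ⊗[R] B →ₐ[R] C := Algebra.TensorProduct.lift (φ r₁) (φ r₂) fun _ _ => Commute.all _ _
  let e : C := Φ (Algebra.FormallyUnramified.elem R B)
  have he : θ e = 1 := by
    have hΦ : ∀ z : B ⊗[R] B, θ (Φ z) = χ (Algebra.TensorProduct.lmul' R z) := fun z => by
      induction z with
      | zero => simp
      | add x y hx hy => simp only [map_add, hx, hy]
      | tmul x y =>
        rw [Algebra.TensorProduct.lmul'_apply_tmul, map_mul, Algebra.TensorProduct.lift_tmul, map_mul]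
        congr 1
        · exact RingHom.congr_fun hθ₁ x
        · exact RingHom.congr_fun hθ₂ y
    rw [hΦ, Algebra.FormallyUnramified.lmul_elem, map_one]
  have hagree : ∀ x : B, φ r₂ x * e = φ r₁ x * e := fun x => by
    have h3 := congrArg Φ (Algebra.FormallyUnramified.one_tmul_mul_elem (R := R) x)
    rw [map_mul, map_mul, Algebra.TensorProduct.lift_tmul, Algebra.TensorProduct.lift_tmul] at h3
    simpa using h3
  letI : Algebra B C := (φ r₁).toRingHom.toAlgebra
  haveI : IsScalarTower R B C := IsScalarTower.of_algebraMap_eq fun x => ((φ r₁).commutes x).symm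
  haveI : Module.Flat B C := GrothLib.RGProj13.flat_of_unramified_module R B C
  have h0 : algebraMap B C (b - b') * e = 0 := by
    show φ r₁ (b - b') * e = 0
    rw [map_sub, sub_mul, heq, hagree, sub_self]
  obtain ⟨c, hc, hcd⟩ := exists_mul_eq_zero_of_flat θ (by rw [he]; exact one_ne_zero) h0
  refine ⟨c, ?_, by rwa [mul_sub, sub_eq_zero] at hcd⟩
  rwa [show θ (algebraMap B C c) = χ c from RingHom.congr_fun hθ₁ c] at hc

end GrothLib.HSheaf4
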